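import Cfsg.Agent.H6.QO.Frame
import Cfsg.Agent.RuLat.Main
import Cfsg.Agent.S2051

/-!
# Ore's theorem for the double cover of the Rudvalis group: the reduction (helper33)

* `Fus x` : `x` has a lift to the lattice group which is conjugate to its product by the commutator `-1` of the right
  multiplications by `j`, `k`;
* `rowA_of` : one commutator `[x, k]` with `Fus x` in every nontrivial class of the Rudvalis group is enough.
-/

set_option autoImplicit false

namespace Cfsg.Agent.H33.QRu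

open Subgroup Cfsg.Spor Cfsg.Agent.H51.Mult Cfsg.Agent.H51.Tools Cfsg.Agent.H777.Ore Cfsg.Agent.H6.QO
open Cfsg.Agent.H51.RuCover
open scoped commutatorElement

/-- the commutator `-1` -/
noncomputable abbrev nu : fourRu := ⁅j, k⁆

/-- the quotient map -/
noncomputable abbrev qm : fourRu →* Ru := QuotientGroup.mk' (center fourRu)

theorem qm_surj : Function.Surjective qm := QuotientGroup.mk'_surjective _

theorem ker_qm : qm.ker ≤ center fourRu := by rw [QuotientGroup.ker_mk']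

theorem nu_central (y : fourRu) : nu * y = y * nu := (mem_center_iff.1 (mem_center_of comm_apply) y).symm

theorem qm_nu : qm nu = 1 := (QuotientGroup.eq_one_iff _).2 (mem_center_of comm_apply)

/-- `x` has a lift which is conjugate to its product by `-1` -/
def Fus (x : Ru) : Prop := ∃ f c : fourRu, qm f = x ∧ c * f * c⁻¹ = f * nu

theorem Fus.conj {x : Ru} (h : Fus x) (y : Ru) : Fus (y * x * y⁻¹) := by
  obtain ⟨f, c, rfl, hc⟩ := h
  obtain ⟨y, rfl⟩ := qm_surj y
  refine ⟨y * f * y⁻¹, y * c * y⁻¹, by rw [map_mul, map_mul, map_inv], ?_⟩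
  calc y * c * y⁻¹ * (y * f * y⁻¹) * (y * c * y⁻¹)⁻¹ = y * (c * f * c⁻¹) * y⁻¹ := by group
    _ = y * (f * nu) * y⁻¹ := by rw [hc]
    _ = y * f * (nu * y⁻¹) := by group
    _ = y * f * (y⁻¹ * nu) := by rw [nu_central]
    _ = y * f * y⁻¹ * nu := by group

/-- in the commutator subgroup -/
theorem Fus.lift (hX : commutator Ru = ⊤) {x : Ru} (h : Fus x) :
    ∃ f c : commutator fourRu, qm f = x ∧ c * f * c⁻¹ = f * ⟨nu, commutator_mem_commutator (mem_top _) (mem_top _)⟩ := by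
  obtain ⟨f, c, rfl, hc⟩ := h
  obtain ⟨d, hd, ζ, hζ, rfl⟩ := exists_factor qm_surj hX f
  obtain ⟨e, he, ξ, hξ, rfl⟩ := exists_factor qm_surj hX c
  refine ⟨⟨d, hd⟩, ⟨e, he⟩, by rw [map_mul, hζ, mul_one], Subtype.ext ?_⟩
  show e * d * e⁻¹ = d * nu
  have h1 : ∀ y, ζ * y = y * ζ := fun y => (mem_center_iff.1 (ker_qm hζ) y).symm
  have h2 : ∀ y, ξ * y = y * ξ := fun y => (mem_center_iff.1 (ker_qm hξ) y).symm
  have h3 : e * ξ * (d * ζ) * (e * ξ)⁻¹ = e * d * e⁻¹ * ζ := by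
    calc e * ξ * (d * ζ) * (e * ξ)⁻¹ = e * (ξ * (d * ζ)) * ξ⁻¹ * e⁻¹ := by group
      _ = e * ((d * ζ) * ξ) * ξ⁻¹ * e⁻¹ := by rw [h2]
      _ = e * d * (ζ * e⁻¹) := by group
      _ = e * d * (e⁻¹ * ζ) := by rw [h1]
      _ = e * d * e⁻¹ * ζ := by group
  rw [h3] at hc
  have h4 : e * d * e⁻¹ * ζ = d * nu * ζ := by
    rw [hc]
    calc d * ζ * nu = d * (ζ * nu) := by group
      _ = d * (nu * ζ) := by rw [h1]
      _ = d * nu * ζ := by group
  exact mul_right_cancel h4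

/-- **the reduction** -/
theorem rowA_of (h : ∀ g : Ru, g ≠ 1 → ∃ x k : Ru, Fus x ∧ IsConj g (x * k * x⁻¹ * k⁻¹)) : RowA Ru := by
  obtain ⟨hz, hcard, hs⟩ := Cfsg.Agent.RuLat.Main.main
  haveI : Finite Ru := Nat.finite_of_card_ne_zero (by rw [hcard]; norm_num)
  have hX : commutator Ru = ⊤ := perfect_of_simple hs (by rw [hcard]; norm_num)
  haveI hfin : Finite fourRu := by
    apply Nat.finite_of_card_ne_zero
    rw [Subgroup.card_eq_card_quotient_mul_card_subgroup (Subgroup.center fourRu), hz]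
    show Nat.card Ru * 4 ≠ 0
    rw [hcard]
    norm_num
  have hσ : PCE (qm.comp (commutator fourRu).subtype) := pce_of_central qm_surj ker_qm hX
  have hnu : nu ∈ commutator fourRu := commutator_mem_commutator (mem_top _) (mem_top _)
  have hord : orderOf (⟨⟨nu, hnu⟩, qm_nu⟩ : (qm.comp (commutator fourRu).subtype).ker) = 2 := by
    rw [← Subgroup.orderOf_coe, ← Subgroup.orderOf_coe]
    exact orderOf_comm
  have hker : Nat.card (qm.comp (commutator fourRu).subtype).ker = 2 := by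
    refine Nat.dvd_antisymm (Cfsg.Agent.H68.Bounds.ker_of_hasCyclic Cfsg.Agent.S2051.result hσ).2 ?_
    rw [← hord]
    exact orderOf_dvd_natCard _
  have hgen : ∀ ζ : commutator fourRu, (qm.comp (commutator fourRu).subtype) ζ = 1 →
      ζ ∈ zpowers (⟨nu, hnu⟩ : commutator fourRu) := by
    intro ζ hζ
    have h1 : zpowers (⟨⟨nu, hnu⟩, qm_nu⟩ : (qm.comp (commutator fourRu).subtype).ker) = ⊤ := by
      apply Subgroup.eq_top_of_card_eq
      rw [Nat.card_zpowers, hord, hker]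
    have h2 : (⟨ζ, hζ⟩ : (qm.comp (commutator fourRu).subtype).ker) ∈
        zpowers (⟨⟨nu, hnu⟩, qm_nu⟩ : (qm.comp (commutator fourRu).subtype).ker) := h1 ▸ mem_top _
    obtain ⟨n, hn⟩ := mem_zpowers_iff.1 h2
    exact mem_zpowers_iff.2 ⟨n, congrArg (Subtype.val) hn⟩
  have hcardA : Nat.card (Multiplicative (ZMod 2)) = 2 := by
    rw [Nat.card_congr (Multiplicative.toAdd (α := ZMod 2)), Nat.card_zmod]
  refine RowA.of_univ (A := Multiplicative (ZMod 2)) Cfsg.Agent.S2051.result hσ (hker.trans hcardA.symm) ?_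
  intro g
  by_cases hg : (qm.comp (commutator fourRu).subtype) g = 1
  · -- the kernel
    obtain ⟨d, hd, ζ, hζ, hj⟩ := exists_factor qm_surj hX j
    obtain ⟨e, he, ξ, hξ, hk⟩ := exists_factor qm_surj hX k
    have h1 : IsC (⟨nu, hnu⟩ : commutator fourRu) := by
      refine ⟨⟨d, hd⟩, ⟨e, he⟩, Subtype.ext ?_⟩
      show nu = d * e * d⁻¹ * e⁻¹
      have h1 : ∀ y, ζ * y = y * ζ := fun y => (mem_center_iff.1 (ker_qm hζ) y).symm
      have h2 : ∀ y, ξ * y = y * ξ := fun y => (mem_center_iff.1 (ker_qm hξ) y).symm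
      show j * k * j⁻¹ * k⁻¹ = _
      rw [hj, hk]
      calc d * ζ * (e * ξ) * (d * ζ)⁻¹ * (e * ξ)⁻¹ = d * (ζ * (e * ξ)) * ζ⁻¹ * d⁻¹ * (ξ⁻¹ * e⁻¹) := by group
        _ = d * ((e * ξ) * ζ) * ζ⁻¹ * d⁻¹ * (ξ⁻¹ * e⁻¹) := by rw [h1]
        _ = d * e * (ξ * (d⁻¹ * ξ⁻¹)) * e⁻¹ := by group
        _ = d * e * ((d⁻¹ * ξ⁻¹) * ξ) * e⁻¹ := by rw [h2]
        _ = d * e * d⁻¹ * e⁻¹ := by group
    obtain ⟨n, hn⟩ := mem_zpowers_iff.1 (hgen g hg)
    rcases Int.even_or_odd' n with ⟨m, rfl | rfl⟩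
    · have h2 : g = 1 := by
        rw [← hn, zpow_mul]
        have h3 : (⟨nu, hnu⟩ : commutator fourRu) ^ (2 : ℤ) = 1 := by
          have h4 := pow_orderOf_eq_one nu
          rw [orderOf_comm] at h4
          exact Subtype.ext (by simpa using h4)
        rw [h3, one_zpow]
      rw [h2]; exact isC_one
    · have h2 : g = ⟨nu, hnu⟩ := by
        rw [← hn, zpow_add, zpow_mul]
        have h3 : (⟨nu, hnu⟩ : commutator fourRu) ^ (2 : ℤ) = 1 := by
          have h4 := pow_orderOf_eq_one nu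
          rw [orderOf_comm] at h4
          exact Subtype.ext (by simpa using h4)
        rw [h3, one_zpow, one_mul, zpow_one]
      rw [h2]; exact h1
  · obtain ⟨x, y, hx, hconj⟩ := h _ hg
    obtain ⟨t, ht⟩ := isConj_iff.1 hconj
    obtain ⟨t, rfl⟩ := hσ.surj t
    obtain ⟨f, c, rfl, hc⟩ := hx.lift hX
    have h1 : IsC (t * g * t⁻¹) := by
      refine isC_of_pair_zpowers (π := qm.comp (commutator fourRu).subtype) hσ.surj hσ.cen hgen qm_nu (x := f) (k := y)
        ?_ (isConj_iff.2 ⟨c, hc⟩)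
      rw [map_mul, map_mul, map_inv]
      exact ht
    exact IsC.of_conj t h1

end Cfsg.Agent.H33.QRu
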